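import Groth.Agent.L04.CMBasic
import Groth.Agent.L04.CMLoc
import Mathlib.RingTheory.Regular.RegularSequence
import Mathlib.RingTheory.Nakayama
import Mathlib.RingTheory.Ideal.AssociatedPrime.Finiteness

/-! Generators of an ideal in a Cohen–Macaulay local ring beginning with a regular sequence. -/

set_option autoImplicit false
universe u v

open IsLocalRing RingTheory.Sequence
open scoped Pointwise

namespace Groth.Agent.L13.DSeq

variable {T : Type u} [CommRing T]

theorem exists_list_span (J : Ideal T) (hJ : J.FG) :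
    ∃ r : List T, r.length = Submodule.spanFinrank J ∧ Ideal.ofList r = J := by
  have hfin := Submodule.FG.finite_generators hJ
  refine ⟨hfin.toFinset.toList, ?_, ?_⟩
  · rw [Finset.length_toList, ← Submodule.FG.generators_ncard hJ, Set.ncard_eq_toFinset_card _ hfin]
  · have : {x | x ∈ hfin.toFinset.toList} = Submodule.generators J := by ext; simp
    rw [Ideal.ofList, this]
    exact Submodule.span_generators J

theorem spanFinrank_ofList_le (r : List T) :
    Submodule.spanFinrank (Ideal.ofList r) ≤ r.length := by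
  classical
  have h : {x | x ∈ r} = (r.toFinset : Set T) := by ext; simp
  refine le_trans (Submodule.spanFinrank_span_le_ncard_of_finite (R := T) (r.finite_toSet)) ?_
  rw [h, Set.ncard_coe_finset]
  exact List.toFinset_card_le r

/-- Exchange lemma over a local ring. -/
theorem exchange [IsLocalRing T] {I : Ideal T} (ts r : List T) (hI : Ideal.ofList (ts ++ r) = I)
    (x : T) (hx : x ∈ I) (hx' : x ∉ Ideal.ofList ts ⊔ maximalIdeal T • I) :
    ∃ r' : List T, r'.length + 1 = r.length ∧ Ideal.ofList (ts ++ [x] ++ r') = I := by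
  classical
  induction r generalizing ts with
  | nil =>
    exact absurd (Submodule.mem_sup_left (by rwa [← hI, List.append_nil] at hx)) hx'
  | cons y r ih =>
    by_cases hy : y ∈ Ideal.ofList (ts ++ [x] ++ r)
    · refine ⟨r, by simp, le_antisymm ?_ ?_⟩
      · rw [Ideal.ofList, Ideal.span_le]
        intro z hz
        simp only [List.mem_append, List.mem_cons, List.not_mem_nil, or_false, Set.mem_setOf_eq] at hz
        rcases hz with (hz | rfl) | hz
        · exact hI ▸ Ideal.subset_span (by simp [hz])
        · exact hx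
        · exact hI ▸ Ideal.subset_span (by simp [hz])
      · rw [← hI, Ideal.ofList, Ideal.span_le]
        intro z hz
        simp only [List.mem_append, List.mem_cons, Set.mem_setOf_eq] at hz
        rcases hz with hz | rfl | hz
        · exact Ideal.subset_span (by simp [hz])
        · exact hy
        · exact Ideal.subset_span (by simp [hz])
    · -- the coefficient of `y` is not a unit
      have hI' : Ideal.ofList ((ts ++ [y]) ++ r) = I := by simpa using hI
      by_cases hx'' : x ∈ Ideal.ofList (ts ++ [y]) ⊔ maximalIdeal T • I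
      · exfalso
        apply hx'
        rw [Ideal.ofList_append, sup_right_comm] at hx''
        obtain ⟨w, hw, v, hv, rfl⟩ := Submodule.mem_sup.1 hx''
        rw [Ideal.ofList_singleton] at hv
        obtain ⟨a, rfl⟩ := Ideal.mem_span_singleton'.1 hv
        by_cases ha : IsUnit a
        · exfalso
          -- then `y` would be redundant
          obtain ⟨a, rfl⟩ := ha
          apply hy
          set I' := Ideal.ofList (ts ++ [w + ↑a * y] ++ r) with hI'd
          have hle : I ≤ I' ⊔ maximalIdeal T • I := by
            conv_lhs => rw [← hI]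
            rw [Ideal.ofList, Ideal.span_le]
            intro z hz
            simp only [List.mem_append, List.mem_cons, Set.mem_setOf_eq] at hz
            rcases hz with hz | rfl | hz
            · exact Submodule.mem_sup_left (Ideal.subset_span (by simp [hz]))
            · refine (Ideal.unit_mul_mem_iff_mem _ a.isUnit).1 ?_
              have h1 : w + ↑a * z ∈ I' ⊔ maximalIdeal T • I :=
                Submodule.mem_sup_left (Ideal.subset_span (by simp))
              have h2 : w ∈ I' ⊔ maximalIdeal T • I := by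
                have hle' : Ideal.ofList ts ≤ I' := by
                  rw [hI'd, Ideal.ofList_append, Ideal.ofList_append]
                  exact le_sup_of_le_left le_sup_left
                exact (sup_le_sup_right hle' (maximalIdeal T • I)) hw
              simpa using sub_mem h1 h2
            · exact Submodule.mem_sup_left (Ideal.subset_span (by simp [hz]))
          have hfg : I.FG := hI ▸ ⟨(ts ++ y :: r).toFinset, by rw [Ideal.ofList]; congr 1; ext; simp only [Finset.mem_coe, List.mem_toFinset]; rfl⟩
          have := Submodule.le_of_le_smul_of_le_jacobson_bot hfg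
            (IsLocalRing.jacobson_eq_maximalIdeal ⊥ bot_ne_top).ge hle
          exact this (hI ▸ Ideal.subset_span (by simp))
        · exact add_mem hw (Submodule.mem_sup_right
            (Submodule.smul_mem_smul ((mem_maximalIdeal _).2 ha) (hI ▸ Ideal.subset_span (by simp))))
      · obtain ⟨r', hlen, hr'⟩ := ih (ts ++ [y]) hI' hx''
        refine ⟨y :: r', by simp [← hlen], ?_⟩
        rw [← hr']
        simp only [Ideal.ofList_append, Ideal.ofList_cons, Ideal.ofList_singleton, Ideal.ofList_nil, sup_bot_eq]
        ac_rfl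

variable [IsNoetherianRing T]

theorem exists_notMem {I A B : Ideal T} (S : Set (Ideal T)) (hS : S.Finite) (hp : ∀ P ∈ S, P.IsPrime)
    (hA : ¬ I ≤ A) (hB : ¬ I ≤ B) (hP : ∀ P ∈ S, ¬ I ≤ P) :
    ∃ x ∈ I, x ∉ A ∧ x ∉ B ∧ ∀ P ∈ S, x ∉ P := by
  by_contra h
  push Not at h
  have hsub : (I : Set T) ⊆ ⋃ P ∈ insert A (insert B S), (id P : Set T) := by
    intro x hx
    simp only [Set.mem_iUnion, Set.mem_insert_iff, SetLike.mem_coe, id_eq, exists_prop]
    by_cases h1 : x ∈ A
    · exact ⟨A, Or.inl rfl, h1⟩
    by_cases h2 : x ∈ B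
    · exact ⟨B, Or.inr (Or.inl rfl), h2⟩
    obtain ⟨P, hP1, hP2⟩ := h x hx h1 h2
    exact ⟨P, Or.inr (Or.inr hP1), hP2⟩
  obtain ⟨P, hP1, hP2⟩ := (Ideal.subset_union_prime_finite ((hS.insert B).insert A) A B
    (fun P hP1 hA' hB' => by
      rcases hP1 with rfl | rfl | hP1
      · exact absurd rfl hA'
      · exact absurd rfl hB'
      · exact hp P hP1)).1 hsub
  rcases hP1 with rfl | rfl | hP1
  · exact hA hP2
  · exact hB hP2
  · exact hP P hP1 hP2

variable [IsLocalRing T]

/-- Extend a regular sequence inside `J`, avoiding prescribed proper sub-ideals. -/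
theorem step {J B : Ideal T} (hJ : J ≠ ⊤) (hB : ¬ J ≤ B) (ts : List T)
    (hts : IsWeaklyRegular T ts) (htJ : ∀ t ∈ ts, t ∈ J)
    (hlt : (ts.length : ℕ∞) < LocCoh.idealDepth J T) :
    ∃ x ∈ J, x ∉ Ideal.ofList ts ⊔ maximalIdeal T • J ∧ x ∉ B ∧ IsWeaklyRegular T (ts ++ [x]) := by
  let Q := T ⧸ (Ideal.ofList ts • ⊤ : Submodule T T)
  have hno : ∀ z : Q, z ≠ 0 → ¬ ∀ a ∈ J, a • z = 0 := fun z hz0 hz =>
    (Groth.L04.idealDepth_eq_length hts htJ hz0 hz ▸ hlt).ne rfl
  have hA : ¬ J ≤ Ideal.ofList ts ⊔ maximalIdeal T • J := by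
    intro h
    have hle : J ≤ Ideal.ofList ts := Submodule.le_of_le_smul_of_le_jacobson_bot
      (IsNoetherian.noetherian J) (IsLocalRing.jacobson_eq_maximalIdeal ⊥ bot_ne_top).ge h
    refine hno (Submodule.Quotient.mk 1) ?_ fun a ha => ?_
    · rw [Ne, Submodule.Quotient.mk_eq_zero, smul_eq_mul, Ideal.mul_top, ← Ideal.eq_top_iff_one]
      exact ne_top_of_le_ne_top hJ (Ideal.span_le.2 htJ)
    · rw [← Submodule.Quotient.mk_smul, Submodule.Quotient.mk_eq_zero, smul_eq_mul, Ideal.mul_top,
        smul_eq_mul, mul_one]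
      exact hle ha
  have hP : ∀ P ∈ associatedPrimes T Q, ¬ J ≤ P := by
    intro P hP hle
    obtain ⟨hPp, z, hz⟩ := (isAssociatedPrime_iff).1 hP
    refine hno z ?_ fun a ha => ?_
    · rintro rfl
      apply hPp.ne_top
      rw [hz, Ideal.eq_top_iff_one, Submodule.mem_colon_singleton]
      simp
    · have := hle ha
      rw [hz, Submodule.mem_colon_singleton, Submodule.mem_bot] at this
      exact this
  obtain ⟨x, hxJ, hxA, hxB, hxP⟩ := exists_notMem (associatedPrimes T Q) (associatedPrimes.finite T Q)
    (fun P hP => hP.isPrime) hA hB hP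
  refine ⟨x, hxJ, hxA, hxB, (isWeaklyRegular_append_iff T ts [x]).2 ⟨hts, ?_⟩⟩
  rw [isWeaklyRegular_singleton_iff]
  by_contra hx
  have : x ∈ ⋃ P ∈ associatedPrimes T Q, (P : Set T) := by
    rw [biUnion_associatedPrimes_eq_compl_regular]
    exact hx
  simp only [Set.mem_iUnion] at this
  obtain ⟨P, hP1, hP2⟩ := this
  exact hxP P hP1 hP2

/-- Generators of `J` starting with a regular sequence, whose images are part of minimal generators
of the image in a second local ring. -/
theorem exists_gens {S : Type v} [CommRing S] [IsNoetherianRing S] [IsLocalRing S] (f : T →+* S)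
    {J : Ideal T} (hJ : J ≠ ⊤) : ∀ n : ℕ, (n : ℕ∞) ≤ LocCoh.idealDepth J T →
      n ≤ Submodule.spanFinrank J → n ≤ Submodule.spanFinrank (J.map f) →
      ∃ (ts r : List T) (r' : List S), ts.length = n ∧ IsWeaklyRegular T ts ∧
        r.length + n = Submodule.spanFinrank J ∧ Ideal.ofList (ts ++ r) = J ∧
        r'.length + n = Submodule.spanFinrank (J.map f) ∧ Ideal.ofList (ts.map f ++ r') = J.map f := by
  intro n
  induction n with
  | zero =>
    intro _ _ _
    obtain ⟨r, hr, hr'⟩ := exists_list_span J (IsNoetherian.noetherian J)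
    obtain ⟨s, hs, hs'⟩ := exists_list_span (J.map f) (IsNoetherian.noetherian _)
    exact ⟨[], r, s, rfl, .nil T T, hr, hr', hs, hs'⟩
  | succ n ih =>
    intro h1 h2 h3
    obtain ⟨ts, r, r', hn, hreg, hr, hrJ, hr', hr'J⟩ :=
      ih (le_trans (by exact_mod_cast Nat.le_succ n) h1) (by omega) (by omega)
    have htJ : ∀ t ∈ ts, t ∈ J := fun t ht => hrJ ▸ Ideal.subset_span (by simp [ht])
    let B := (Ideal.ofList (ts.map f) ⊔ maximalIdeal S • J.map f).comap f
    have hB : ¬ J ≤ B := by
      intro h
      have hle : J.map f ≤ Ideal.ofList (ts.map f) := Submodule.le_of_le_smul_of_le_jacobson_bot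
        (IsNoetherian.noetherian _) (IsLocalRing.jacobson_eq_maximalIdeal ⊥ bot_ne_top).ge
        (Ideal.map_le_iff_le_comap.2 h)
      have heq : J.map f = Ideal.ofList (ts.map f) := le_antisymm hle (Ideal.span_le.2 fun s hs => by
        obtain ⟨t, ht, rfl⟩ := List.mem_map.1 hs
        exact Ideal.mem_map_of_mem f (htJ t ht))
      have := spanFinrank_ofList_le (ts.map f)
      rw [← heq, List.length_map, hn] at this
      omega
    obtain ⟨x, hxJ, hxA, hxB, hx⟩ := step hJ hB ts hreg htJ
      (lt_of_lt_of_le (by rw [hn]; exact_mod_cast Nat.lt_succ_self n) h1)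
    obtain ⟨q, hq, hqJ⟩ := exchange ts r hrJ x hxJ hxA
    obtain ⟨q', hq', hq'J⟩ := exchange (ts.map f) r' hr'J (f x) (Ideal.mem_map_of_mem f hxJ) hxB
    refine ⟨ts ++ [x], q, q', by simp [hn], hx, by omega, hqJ, by omega, ?_⟩
    simpa using hq'J

end Groth.Agent.L13.DSeq
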